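import Groth.Agent.Lib.HypEq17.Split

/-!
# Euler characteristic of a sum of twists on the projective line
-/

set_option linter.style.haveILetI false
set_option autoImplicit false

universe u

open CategoryTheory TopologicalSpace Opposite CategoryTheory.Limits AlgebraicGeometry

namespace Groth.Agent.GenusFF17

open Groth.Agent.M1 Groth.Agent.M2 Groth.Agent.CurveCoh17 Groth.Agent.P1Split

variable {k : Type u} [Field k]

theorem euler_twist (d : ℤ) :
    @Curv2.euler k _ (CohB1.ProjSpace 1 k) ⟨CohB1.ProjSpace.toSpec 1 k⟩ (_root_.Twist.twistProjSpace 1 k d) =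
      d + 1 := by
  rcases lt_or_ge d 0 with hd | hd
  · exact HypEq17.euler_twist_of_neg hd
  obtain ⟨j, rfl⟩ := Int.eq_ofNat_of_zero_le hd
  letI : (CohB1.ProjSpace 1 k).Over (Spec (CommRingCat.of k)) := ⟨CohB1.ProjSpace.toSpec 1 k⟩
  haveI := Groth.Agent.S0844.result k 1 (j : ℤ) 1 (by omega) (by omega)
  rw [(HypEq17.adm_twist (k := k) (j : ℤ)).euler_eq,
    Module.finrank_zero_of_subsingleton (M := Coh.HH (CohB1.ProjSpace 1 k) (_root_.Twist.twistProjSpace 1 k (j : ℤ)) 1),
    HypEq17.h0_twist]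
  push_cast
  ring

section

variable {X : Scheme.{u}} [X.Over (Spec (CommRingCat.of k))]

theorem adm_of_isZero {M : X.Modules} (h : IsZero M) : Adm k M ∧ Curv2.euler k X M = 0 := by
  haveI : ∀ n, Subsingleton (Coh.HH X M n) := fun n => subsingleton_of_forall_eq 0 fun x => by
    have : hmap k (𝟙 M) n x = 0 := by rw [h.eq_of_src (𝟙 M) 0, hmap_zero]
    rwa [hmap_id] at this
  refine ⟨⟨fun n => inferInstance, fun n => inferInstance⟩, ?_⟩
  rw [Curv2.euler]
  exact finsum_eq_zero_of_forall_eq_zero fun i => by rw [Module.finrank_zero_of_subsingleton]; simp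

theorem adm_coprod : ∀ (r : ℕ) (G : Fin r → X.Modules) (c : Fin r → ℤ), (∀ i, Adm k (G i)) →
    (∀ i, Curv2.euler k X (G i) = c i) → Adm k (∐ G) ∧ Curv2.euler k X (∐ G) = ∑ i, c i := by
  intro r
  induction r with
  | zero =>
    intro G c _ _
    have hz : IsZero (∐ G) := by
      rw [IsZero.iff_id_eq_zero]
      ext i
      exact i.elim0
    obtain ⟨h1, h2⟩ := adm_of_isZero (k := k) hz
    exact ⟨h1, by rw [h2]; simp⟩
  | succ r ih =>
    intro G c hG hc
    obtain ⟨h3, h3e⟩ := ih (fun i : Fin r => G i.succ) (fun i : Fin r => c i.succ) (fun i => hG _) (fun i => hc _)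
    let s : (∐ fun i : Fin r => G i.succ) ⟶ ∐ G := Sigma.desc fun i => Sigma.ι G i.succ
    let g : (∐ G) ⟶ ∐ fun i : Fin r => G i.succ := Sigma.desc (Fin.cases 0 fun i => Sigma.ι (fun i : Fin r => G i.succ) i)
    let S : ShortComplex X.Modules := ShortComplex.mk (Sigma.ι G 0) g (by simp [g])
    have hS : S.ShortExact := (ShortComplex.Splitting.mk (S := S) (proj G 0) s (ι_proj_self G 0)
      (by
        apply Sigma.hom_ext
        intro i
        simp [S, s, g])
      (by
        apply Sigma.hom_ext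
        intro i
        refine Fin.cases ?_ (fun j => ?_) i
        · show Sigma.ι G 0 ≫ (proj G 0 ≫ Sigma.ι G 0 + g ≫ s) = _
          rw [Preadditive.comp_add, ← Category.assoc, ι_proj_self]
          simp [g]
          exact (Category.comp_id _).symm
        · show Sigma.ι G j.succ ≫ (proj G 0 ≫ Sigma.ι G 0 + g ≫ s) = _
          rw [Preadditive.comp_add, ← Category.assoc, ι_proj_ne G (Fin.succ_ne_zero j)]
          simp [g, s]
          exact (Category.comp_id _).symm)).shortExact
    have h1 : Adm k S.X₁ := hG 0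
    have h3' : Adm k S.X₃ := h3
    have hA : Adm k S.X₂ := adm₂ hS h1 h3'
    have hχ := euler_add hS h1 h3'
    refine ⟨hA, ?_⟩
    rw [Fin.sum_univ_succ, ← h3e, ← hc 0]
    exact hχ

end

/-- The Euler characteristic of a sum of twists. -/
theorem euler_splitMod {r : ℕ} (d : Fin r → ℤ) :
    @Adm k _ (CohB1.ProjSpace 1 k) ⟨CohB1.ProjSpace.toSpec 1 k⟩ (splitMod k d) ∧
      @Curv2.euler k _ (CohB1.ProjSpace 1 k) ⟨CohB1.ProjSpace.toSpec 1 k⟩ (splitMod k d) = ∑ i, (d i + 1) := by
  letI : (CohB1.ProjSpace 1 k).Over (Spec (CommRingCat.of k)) := ⟨CohB1.ProjSpace.toSpec 1 k⟩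
  exact adm_coprod r (fun i => _root_.Twist.twistProjSpace 1 k (d i)) (fun i => d i + 1)
    (fun i => HypEq17.adm_twist (k := k) (d i)) (fun i => euler_twist (d i))

end Groth.Agent.GenusFF17
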