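import Groth.Agent.Lib.GenusFF17.Pure
import Groth.Agent.Lib.GenusFF17.Sum
import Groth.Agent.Lib.HypEq17.Main
import Groth.Agent.Lib.HypEq17.Apps
import Groth.Agent.Lib.CurveOm17.SepMap
import Groth.Agent.Lib.CurveOm17.PullP1

/-!
# The genus of a curve is the genus of its function field
-/

set_option linter.style.haveILetI false
set_option autoImplicit false
set_option maxHeartbeats 1000000

universe u

open CategoryTheory TopologicalSpace Opposite CategoryTheory.Limits AlgebraicGeometry
open scoped LaurentPolynomial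

namespace Groth.Agent.GenusFF17

open Groth.Agent.M1 Groth.Agent.M2 Groth.Agent.CurveCoh17 Groth.Agent.P1Split Groth.Agent.HypEq17

attribute [local instance] Curv2.stalkAlgebra

variable {k : Type u} [Field k] {X : Scheme.{u}} [X.Over (Spec (CommRingCat.of k))] [IsIntegral X]

/-- A global function is a constant when `h⁰(O) = 1`. -/
theorem exists_eq_algebraMap (h0 : Module.finrank k (Coh.HH X (Coh.structureModule X) 0) = 1) (g : Γ(X, ⊤)) :
    ∃ c : k, algebraMap k X.functionField c = X.presheaf.germ ⊤ (genericPoint X) trivial g := by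
  let F := Coh.structureModule X
  obtain ⟨x, hx, hspan⟩ := finrank_eq_one_iff'.1 h0
  let φ := ((Scheme.ΓSpecIso (CommRingCat.of k)).inv ≫ (X ↘ Spec (CommRingCat.of k)).appTop).hom
  have hsmul : ∀ (c : k) (z : Coh.HH X F 0), hh0 F (c • z) = (show Γ(X, ⊤) from φ c) • hh0 F z := fun c z =>
    hh0_smul (M := F) _ z
  obtain ⟨a, ha⟩ := hspan ((hh0 F).symm (one ⊤))
  have h1 := congrArg (hh0 F) ha
  rw [hsmul, AddEquiv.apply_symm_apply] at h1
  have h1' : (show Γ(X, ⊤) from φ a) * (show Γ(X, ⊤) from hh0 F x) = 1 := h1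
  obtain ⟨c, hc⟩ := hspan ((hh0 F).symm ((show Γ(X, ⊤) from g) : Γ(F, ⊤)))
  have h2 := congrArg (hh0 F) hc
  rw [hsmul] at h2
  replace h2 := h2.trans ((hh0 F).apply_symm_apply _)
  have h2' : (show Γ(X, ⊤) from φ c) * (show Γ(X, ⊤) from hh0 F x) = g := h2
  have hne : a ≠ 0 := fun h => by
    rw [h, map_zero, zero_mul] at h1'
    exact zero_ne_one h1'
  refine ⟨c * a⁻¹, ?_⟩
  show X.presheaf.germ ⊤ (genericPoint X) trivial (φ (c * a⁻¹)) = _
  refine congrArg (fun z => X.presheaf.germ ⊤ (genericPoint X) trivial z) ?_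
  have h3 : φ a⁻¹ = (show Γ(X, ⊤) from hh0 F x) := by
    calc φ a⁻¹ = φ a⁻¹ * (φ a * (show Γ(X, ⊤) from hh0 F x)) := by rw [show φ a * _ = 1 from h1', mul_one]
      _ = _ := by rw [← mul_assoc, ← map_mul, inv_mul_cancel₀ hne, map_one, one_mul]
  rw [map_mul, h3]
  exact h2'

/-- The genus, and the degree of the coordinate, of a finite map to the line. -/
theorem exists_coord [IsProper (X ↘ Spec (CommRingCat.of k))] [Smooth (X ↘ Spec (CommRingCat.of k))]
    (hdim : topologicalKrullDim X = 1) (h0 : Module.finrank k (Coh.HH X (Coh.structureModule X) 0) = 1)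
    (f : X ⟶ CohB1.ProjSpace 1 k) [IsFinite f]
    (hf : f ≫ CohB1.ProjSpace.toSpec 1 k = X ↘ Spec (CommRingCat.of k)) :
    FunFld.IsFunctionField k X.functionField ∧ FunFld.genus k X.functionField = Curv2.genus k X := by
  letI : (CohB1.ProjSpace 1 k).Over (Spec (CommRingCat.of k)) := ⟨CohB1.ProjSpace.toSpec 1 k⟩
  haveI := RegExt.isIntegral_projSpace 1 k
  haveI : IsProper ((CohB1.ProjSpace 1 k) ↘ Spec (CommRingCat.of k)) := ProjSpace.isProper_toSpec 1 k
  haveI : Smooth ((CohB1.ProjSpace 1 k) ↘ Spec (CommRingCat.of k)) := ProjSpace.smooth_toSpec 1 k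
  have hdimY : topologicalKrullDim (CohB1.ProjSpace 1 k) = 1 := by rw [Groth.Agent.S10829.result k 1]; rfl
  haveI := VB17.isNoetherian_of_over (k := k) (X := CohB1.ProjSpace 1 k)
  haveI : JacobsonSpace X := LocallyOfFiniteType.jacobsonSpace (X ↘ Spec (CommRingCat.of k))
  have hξ := CurveOm17.map_genericPoint_of_isFinite hdimY.le hdim f
  haveI : Flat f := CurveCoh17.flat_of_pid f (fun y => VB17.pid_stalk (k := k) hdimY.le y) hξ
  haveI : LocallyOfFinitePresentation f := {
    finitePresentation_appLE := fun {U} hU {V} hV le =>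
      haveI := IsLocallyNoetherian.component_noetherian (X := CohB1.ProjSpace 1 k) ⟨U, hU⟩
      RingHom.FinitePresentation.of_finiteType.mp (f.finiteType_appLE hU hV le) }
  obtain ⟨r, hr⟩ := VB17.exists_rank_of_isFinLocFree (isFinLocFree_pushO f)
  obtain ⟨d, -, ⟨φ⟩⟩ := exists_splitting k (pushO f) hr
  -- Euler characteristic
  have hχ : ∑ i, (d i + 1) = 1 - (Curv2.genus k X : ℤ) := by
    obtain ⟨hA, he⟩ := euler_splitMod (k := k) d
    obtain ⟨e₀⟩ := AmpleFin18.nonempty_HH_push f hf _ (M1.isQCoh_structureModule X) 0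
    obtain ⟨e₁⟩ := AmpleFin18.nonempty_HH_push f hf _ (M1.isQCoh_structureModule X) 1
    let M : (CohB1.ProjSpace 1 k).Modules := splitMod k d
    let e0' : Coh.HH (CohB1.ProjSpace 1 k) M 0 ≃ₗ[k] Coh.HH X (Coh.structureModule X) 0 :=
      (hequiv k φ.symm 0).trans e₀
    let e1' : Coh.HH (CohB1.ProjSpace 1 k) M 1 ≃ₗ[k] Coh.HH X (Coh.structureModule X) 1 :=
      (hequiv k φ.symm 1).trans e₁
    rw [← he]
    have hA' : Adm k M := hA
    show Curv2.euler k (CohB1.ProjSpace 1 k) M = _
    rw [hA'.euler_eq, e0'.finrank_eq, e1'.finrank_eq, h0]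
    rfl
  -- bases of the charts
  let e : ∀ a, Fin r → Γ(X, f ⁻¹ᵁ U k a) := fun a i => φ.inv.app (U k a) (splitGen k d a i)
  have he : ∀ a, IsBas (pushO f) (U k a) (e a) := fun a => (isBas_splitGen k d a).map_iso φ.symm
  have hmem : ∀ a, genericPoint X ∈ f ⁻¹ᵁ U k a := fun a => by
    show f (genericPoint X) ∈ U k a
    rw [hξ]
    obtain ⟨z⟩ := nonempty_U k a
    exact (genericPoint_specializes (α := (CohB1.ProjSpace 1 k : Scheme.{u})) z.1).mem_open (U k a).2 z.2
  have hne : ∀ a, Nonempty ((f ⁻¹ᵁ U k a : X.Opens) : Scheme.{u}) := fun a => ⟨⟨_, hmem a⟩⟩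
  have hmem01 : genericPoint X ∈ f ⁻¹ᵁ U01 k := ⟨hmem 0, hmem 1⟩
  let γ : ∀ a, Γ(X, f ⁻¹ᵁ U k a) →+* X.functionField := fun a =>
    (X.presheaf.germ (f ⁻¹ᵁ U k a) (genericPoint X) (hmem a)).hom
  let γ' : Γ(X, f ⁻¹ᵁ U01 k) →+* X.functionField := (X.presheaf.germ (f ⁻¹ᵁ U01 k) (genericPoint X) hmem01).hom
  have hγ : ∀ a z, γ' (resOver f a z) = γ a z := fun a z =>
    X.presheaf.germ_res_apply (homOfLE (f.preimage_mono (U01_le k a))) (genericPoint X) hmem01 z
  have hinjγ : ∀ a, Function.Injective (γ a) := fun a =>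
    haveI := hne a
    X.germToFunctionField_injective (f ⁻¹ᵁ U k a)
  have hsum : ∀ (V : (CohB1.ProjSpace 1 k).Opens) (a : Fin 2) (h : V ≤ U k a) (c : Fin r → Γ(CohB1.ProjSpace 1 k, V)),
      (∑ i, c i • mres (pushO f) h (e a i) : Γ(pushO f, V)) =
        (∑ i, f.app V (c i) * X.presheaf.map (homOfLE (f.preimage_mono h)).op (e a i) : Γ(X, f ⁻¹ᵁ V)) :=
    fun V a h c => rfl
  have hb : ∀ a, Function.Bijective fun c : Fin r → Polynomial k => ∑ i, chartHom f a (c i) * e a i := fun a => by
    have h1 := (he a (U k a) le_rfl).comp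
      ((coordHom_bijective k a).comp_left : Function.Bijective fun (c : Fin r → Polynomial k) => coordHom k a ∘ c)
    have e1 : ∀ i, X.presheaf.map (homOfLE (f.preimage_mono (le_refl (U k a)))).op (e a i) = e a i := fun i =>
      mres_id (Coh.structureModule X) _ (e a i)
    refine (congrArg Function.Bijective (funext fun c => ?_)).mp h1
    exact (hsum _ a le_rfl (coordHom k a ∘ c)).trans (Finset.sum_congr rfl fun i _ => congrArg (chartHom f a (c i) * ·) (e1 i))
  have hr0 : 0 < r := by
    rcases Nat.eq_zero_or_pos r with rfl | h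
    · exfalso
      obtain ⟨c, hc⟩ := (hb 0).2 1
      simp only [Finset.univ_eq_empty, Finset.sum_empty] at hc
      exact zero_ne_one ((congrArg (γ 0) hc).trans (map_one _) |> (map_zero (γ 0)).symm.trans)
    · exact h
  have hα : ∀ a, Function.Injective (chartHom f a) := fun a => (injective_iff_map_eq_zero _).2 fun p hp => by
    have h1 : (fun _ : Fin r => p) = 0 := (hb a).1 (by simp [hp])
    exact congrFun h1 ⟨0, hr0⟩
  let t : X.functionField := γ 0 (chartHom f 0 Polynomial.X)
  have hC : ∀ a (c : k), γ a (chartHom f a (Polynomial.C c)) = algebraMap k X.functionField c := fun a c => by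
    show γ a (chartHom f a (Polynomial.C c)) = _
    rw [chartHom_C f (X ↘ Spec (CommRingCat.of k)) hf]
    exact X.presheaf.germ_res_apply _ (genericPoint X) (hmem a) _
  have hev : ∀ a (p : Polynomial k), Polynomial.aeval (γ a (chartHom f a Polynomial.X)) p = γ a (chartHom f a p) :=
    fun a p => by
    have h : (Polynomial.aeval (R := k) (γ a (chartHom f a Polynomial.X))).toRingHom = (γ a).comp (chartHom f a) :=
      Polynomial.ringHom_ext (fun c => by simp [hC]) (by simp)
    exact DFunLike.congr_fun h p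
  have htr : Transcendental k t := transcendental_iff.2 fun p hp => hα 0 (hinjγ 0 (by
    rw [← hev 0 p, hp, map_zero, map_zero]))
  have ht : t ≠ 0 := fun h => htr (h ▸ isAlgebraic_zero)
  let w : k[T;T⁻¹] →+* X.functionField := γ'.comp (overHom f)
  have hw1 : w (LaurentPolynomial.T 1) = t := by
    rw [← Polynomial.toLaurent_X]
    show γ' (overHom f (posHom k Polynomial.X)) = t
    rw [← resOver_chartHom_zero, hγ]
  have hwT : ∀ n : ℤ, w (LaurentPolynomial.T n) = t ^ n := by
    have hnat : ∀ n : ℕ, w (LaurentPolynomial.T n) = t ^ n := fun n => by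
      rw [show (LaurentPolynomial.T (n : ℤ) : k[T;T⁻¹]) = LaurentPolynomial.T 1 ^ n by
        rw [LaurentPolynomial.T_pow, mul_one], map_pow, hw1]
    intro n
    obtain ⟨m, rfl | rfl⟩ := Int.eq_nat_or_neg n
    · rw [hnat, zpow_natCast]
    · rw [zpow_neg, zpow_natCast]
      refine eq_inv_of_mul_eq_one_left ?_
      rw [← hnat, ← map_mul, ← LaurentPolynomial.T_add, neg_add_cancel, LaurentPolynomial.T_zero, map_one]
  have ht1 : γ 1 (chartHom f 1 Polynomial.X) = t⁻¹ := by
    rw [← hγ, resOver_chartHom_one]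
    show w (negHom k Polynomial.X) = _
    rw [← pow_one (Polynomial.X : Polynomial k), negHom_X_pow, hwT, Nat.cast_one, zpow_neg_one]
  let E : Fin r → X.functionField := fun i => γ 0 (e 0 i)
  have hE1 : ∀ i, γ 1 (e 1 i) = t ^ d i * E i := fun i => by
    have h := congrArg (φ.inv.app (U01 k)) (splitGen_transition k d i)
    rw [app_mres, Scheme.Modules.Hom.app_smul, app_mres] at h
    have h' : resOver f 1 (e 1 i) = overHom f (LaurentPolynomial.T (d i)) * resOver f 0 (e 0 i) := h
    rw [← hγ 1, h', map_mul, hγ 0]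
    exact congrArg (· * E i) (hwT (d i))
  have hchart : ∀ a, ∀ z : Γ(X, f ⁻¹ᵁ U k a), ∃ c : Fin r → Polynomial k,
      γ a z = ∑ i, Polynomial.aeval (γ a (chartHom f a Polynomial.X)) (c i) * γ a (e a i) := fun a z => by
    obtain ⟨c, rfl⟩ := (hb a).2 z
    exact ⟨c, by simp only [map_sum, map_mul, hev]⟩
  have hint : ∀ (a : Fin 2) (z : X.functionField),
      (Polynomial.aeval (R := k) (γ a (chartHom f a Polynomial.X))).toRingHom.IsIntegralElem z ↔
        ∃ c : Fin r → Polynomial k, z =
          ∑ i, Polynomial.aeval (γ a (chartHom f a Polynomial.X)) (c i) * γ a (e a i) := fun a z => by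
    have hcomp : (Polynomial.aeval (R := k) (γ a (chartHom f a Polynomial.X))).toRingHom = (γ a).comp (chartHom f a) :=
      RingHom.ext fun p => hev a p
    rw [hcomp]
    constructor
    · intro hz
      haveI := hne a
      haveI := functionField_isFractionRing_of_isAffineOpen X (f ⁻¹ᵁ U k a)
        (@IsAffineOpen.preimage X (CohB1.ProjSpace 1 k) (U k a) (isAffineOpen_U k a) f inferInstance)
      haveI : IsIntegrallyClosed Γ(X, f ⁻¹ᵁ U k a) := VarDim.isIntegrallyClosed_sections
        (fun x => SmoothReg17.isIntegrallyClosed_stalk (X ↘ Spec (CommRingCat.of k)) x) _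
      obtain ⟨p, hp, hpz⟩ := hz
      have hint : IsIntegral Γ(X, f ⁻¹ᵁ U k a) z := ⟨p.map (chartHom f a), hp.map _, by
        rw [Polynomial.eval₂_map]; exact hpz⟩
      obtain ⟨b, rfl⟩ := IsIntegrallyClosed.isIntegral_iff.1 hint
      exact hchart a b
    · rintro ⟨c, rfl⟩
      have hfin : (chartHom f a).IsIntegral := RingHom.Finite.to_isIntegral
        ((IsFinite.finite_app (f := f) (U k a) (isAffineOpen_U k a)).comp
          (RingHom.Finite.of_surjective _ (coordHom_bijective k a).2))
      have : ∑ i, Polynomial.aeval (γ a (chartHom f a Polynomial.X)) (c i) * γ a (e a i) =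
          γ a (∑ i, chartHom f a (c i) * e a i) := by simp only [map_sum, map_mul, hev]
      rw [this]
      obtain ⟨p, hp, hpz⟩ := hfin (∑ i, chartHom f a (c i) * e a i)
      exact ⟨p, hp, by rw [← Polynomial.hom_eval₂, hpz, map_zero]⟩
  -- the function field
  have hff : FunField.FF k X.functionField := by
    refine ⟨t, htr, ?_⟩
    haveI := hne 0
    haveI := functionField_isFractionRing_of_isAffineOpen X (f ⁻¹ᵁ U k 0)
      (@IsAffineOpen.preimage X (CohB1.ProjSpace 1 k) (U k 0) (isAffineOpen_U k 0) f inferInstance)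
    set L := IntermediateField.adjoin k ({t} : Set X.functionField)
    have hpL : ∀ p : Polynomial k, Polynomial.aeval t p ∈ L := fun p =>
      IntermediateField.algebra_adjoin_le_adjoin k _ (Polynomial.aeval_mem_adjoin_singleton k t)
    let ι : Polynomial k →+* L := (Polynomial.aeval (R := k) t).toRingHom.codRestrict L hpL
    have hEint : ∀ x ∈ Set.range E, IsIntegral L x := by
      rintro x ⟨i, rfl⟩
      obtain ⟨p, hp, hpz⟩ := (hint 0 (E i)).2 ⟨Pi.single i 1, by
        rw [Finset.sum_eq_single i (fun j _ hj => by simp [hj]) (fun h => absurd (Finset.mem_univ i) h)]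
        simp [E]⟩
      exact ⟨p.map ι, hp.map ι, by rw [Polynomial.eval₂_map]; exact hpz⟩
    have hfinL := IntermediateField.finiteDimensional_adjoin (K := L) (S := Set.range E) hEint
    have htop : IntermediateField.adjoin L (Set.range E) = ⊤ := by
      refine eq_top_iff.2 fun z _ => ?_
      obtain ⟨a, b, -, rfl⟩ := IsFractionRing.div_surjective (A := Γ(X, f ⁻¹ᵁ U k 0)) z
      have hall : ∀ b : Γ(X, f ⁻¹ᵁ U k 0), algebraMap _ X.functionField b ∈ IntermediateField.adjoin L (Set.range E) := by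
        intro b
        obtain ⟨c, hc⟩ := hchart 0 b
        show γ 0 b ∈ _
        rw [hc]
        refine sum_mem fun i _ => mul_mem ?_ (IntermediateField.subset_adjoin L _ ⟨i, rfl⟩)
        exact (IntermediateField.adjoin L (Set.range E)).algebraMap_mem ⟨_, hpL (c i)⟩
      exact div_mem (hall a) (hall b)
    rw [htop] at hfinL
    exact Module.Finite.equiv (IntermediateField.topEquiv (F := L) (E := X.functionField)).toLinearEquiv
  have hind : ∀ p : Fin r → Polynomial k, ∑ i, Polynomial.aeval t (p i) * E i = 0 → p = 0 := fun p hp =>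
    (hb 0).1 (hinjγ 0 (by
      simp only [map_sum, map_mul, Pi.zero_apply, map_zero, zero_mul, Finset.sum_const_zero]
      refine Eq.trans (Finset.sum_congr rfl fun i _ => ?_) hp
      rw [hev 0]))
  have hh0 : ∀ z : X.functionField, (∀ P : FunFld.Place k X.functionField, P.1 t ≤ 1 → P.1 z ≤ 1) ↔
      ∃ p : Fin r → Polynomial k, z = ∑ i, Polynomial.aeval t (p i) * E i := fun z =>
    (isIntegralElem_iff_forall_place hff z).symm.trans (hint 0 z)
  have hh1 : ∀ z : X.functionField, (∀ P : FunFld.Place k X.functionField, P.1 t⁻¹ ≤ 1 → P.1 z ≤ 1) ↔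
      ∃ q : Fin r → Polynomial k, z = ∑ i, Polynomial.aeval t⁻¹ (q i) * (t ^ d i * E i) := fun z => by
    refine (isIntegralElem_iff_forall_place hff z).symm.trans ?_
    rw [← ht1, hint 1 z]
    simp only [hE1]
  have hK : FunFld.IsFunctionField k X.functionField := by
    refine ⟨hff, fun y hy => ?_⟩
    have hreg : ∀ a, ∃ s : Γ(X, f ⁻¹ᵁ U k a), γ a s = y := fun a => by
      have hy' : (Polynomial.aeval (R := k) (γ a (chartHom f a Polynomial.X))).toRingHom.IsIntegralElem y := by
        obtain ⟨p, hp, hpy⟩ := hy.isIntegral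
        exact ⟨p.map Polynomial.C, hp.map _, by
          rw [Polynomial.eval₂_map]
          refine Eq.trans (congrArg (fun ψ => Polynomial.eval₂ ψ y p) (RingHom.ext fun c => ?_)) hpy
          exact Polynomial.aeval_C _ c⟩
      obtain ⟨c, hc⟩ := (hint a y).1 hy'
      exact ⟨∑ i, chartHom f a (c i) * e a i, by rw [hc]; simp only [map_sum, map_mul, hev]⟩
    choose s hs using hreg
    have hcov : (⊤ : X.Opens) ≤ ⨆ a, f ⁻¹ᵁ U k a := fun x _ => by
      obtain ⟨a, ha⟩ := TopologicalSpace.Opens.mem_iSup.1 (show f x ∈ ⨆ a, U k a by rw [iSup_U k]; trivial)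
      exact TopologicalSpace.Opens.mem_iSup.2 ⟨a, ha⟩
    obtain ⟨g, hg, -⟩ := X.sheaf.existsUnique_gluing' (fun a => f ⁻¹ᵁ U k a) ⊤ (fun a => homOfLE le_top) hcov s (by
      intro a b
      have hab : genericPoint X ∈ (f ⁻¹ᵁ U k a) ⊓ (f ⁻¹ᵁ U k b) := ⟨hmem a, hmem b⟩
      haveI : Nonempty ((f ⁻¹ᵁ U k a ⊓ f ⁻¹ᵁ U k b : X.Opens) : Scheme.{u}) := ⟨⟨_, hab⟩⟩
      apply X.germToFunctionField_injective (f ⁻¹ᵁ U k a ⊓ f ⁻¹ᵁ U k b)
      refine (X.presheaf.germ_res_apply _ (genericPoint X) hab (s a)).trans ?_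
      refine Eq.trans ?_ (X.presheaf.germ_res_apply _ (genericPoint X) hab (s b)).symm
      exact (hs a).trans (hs b).symm)
    obtain ⟨c, hc⟩ := exists_eq_algebraMap h0 g
    refine ⟨c, hc.trans ?_⟩
    rw [← hs 0, ← hg 0]
    exact (X.presheaf.germ_res_apply _ (genericPoint X) (hmem 0) g).symm
  refine ⟨hK, ?_⟩
  have h := (genus_eq htr hff hind hh0 hh1 hK).1
  omega

/-- The genus of a smooth proper curve with constant field `k` is the genus of its function field. -/
theorem genus_functionField [IsProper (X ↘ Spec (CommRingCat.of k))] [Smooth (X ↘ Spec (CommRingCat.of k))]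
    (hdim : topologicalKrullDim X = 1) (h0 : Module.finrank k (Coh.HH X (Coh.structureModule X) 0) = 1) :
    FunFld.IsFunctionField k X.functionField ∧ FunFld.genus k X.functionField = Curv2.genus k X := by
  obtain ⟨f, hf, hfin, -⟩ := CurveOm17.exists_separable_map (p := X ↘ Spec (CommRingCat.of k)) hdim
  haveI := hfin
  exact exists_coord hdim h0 f hf

end Groth.Agent.GenusFF17
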