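import Groth.Agent.Lib.FunField.RR
import Groth.Agent.Lib.FunField.Degree
import Mathlib.RingTheory.Valuation.LocalSubring
import Mathlib.Algebra.Polynomial.Reverse
import Mathlib.RingTheory.Polynomial.Basic

/-!
# The genus of a function field from bases over two affine charts

If the functions integral at the finite places of `t` have basis `e i` over `k[t]`, and those
integral at the finite places of `t⁻¹` have basis `t ^ d i * e i` over `k[t⁻¹]`, then the genus
is `1 - ∑ (d i + 1)`.
-/

set_option autoImplicit false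

universe u w

open Polynomial FunFld

namespace Groth.Agent.GenusFF17

variable {k : Type u} {K : Type w} [Field k] [Field K] [Algebra k K]

theorem val_aeval_le_one (P : Place k K) {t : K} (ht : P.1 t ≤ 1) (p : k[X]) : P.1 (aeval t p) ≤ 1 := by
  rw [aeval_eq_sum_range]
  refine P.1.map_sum_le fun i _ => ?_
  rw [Algebra.smul_def, map_mul, map_pow]
  exact mul_le_one' (P.2.1 _) (pow_le_one' ht i)

/-- The integral closure of `α (k[X])` consists of the elements regular at the finite places of
`t = α X`. -/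
theorem isIntegralElem_iff_forall_place (h : FunField.FF k K) {t : K} (a : K) :
    ((aeval (R := k) t).toRingHom).IsIntegralElem a ↔ ∀ P : Place k K, P.1 t ≤ 1 → P.1 a ≤ 1 := by
  constructor
  · rintro ⟨p, hp, hpa⟩ P hP
    haveI : IsIntegrallyClosed P.O := inferInstance
    let φ : k[X] →+* P.O :=
      (aeval (R := k) t).toRingHom.codRestrict P.O.toSubring fun r => val_aeval_le_one P hP r
    have hint : IsIntegral P.O a := ⟨p.map φ, hp.map φ, by
      rw [eval₂_map]
      exact hpa⟩
    obtain ⟨b, rfl⟩ := IsIntegrallyClosed.isIntegral_iff.1 hint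
    exact b.2
  · intro ha
    let A : Subalgebra k K := Algebra.adjoin k ({t} : Set K)
    by_contra hn
    have hnm : a ∉ (⨅ V : {V : ValuationSubring K // (A : Set K) ⊆ V.toSubring}, V.1.toSubring) := by
      rw [iInf_valuationSubring_superset]
      rintro ⟨p, hp, hpa⟩
      refine hn ?_
      have hmem : ∀ z : Subring.closure (A : Set K), ∃ r : k[X], aeval t r = (z : K) := fun z => by
        have hz : (z : K) ∈ A := (Subring.closure_le (t := A.toSubring)).2 le_rfl z.2
        change (z : K) ∈ Algebra.adjoin k ({t} : Set K) at hz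
        rw [Algebra.adjoin_singleton_eq_range_aeval] at hz
        exact hz
      have hint : (algebraMap (aeval (R := k) t).toRingHom.range K).IsIntegralElem a := by
        let ι : Subring.closure (A : Set K) →+* (aeval (R := k) t).toRingHom.range :=
          (Subring.closure (A : Set K)).subtype.codRestrict _ fun z => hmem z
        exact ⟨p.map ι, hp.map ι, by rw [eval₂_map]; exact hpa⟩
      obtain ⟨q, hq, hqa⟩ := hint
      have hsurj := (aeval (R := k) t).toRingHom.rangeRestrict_surjective
      obtain ⟨r, hr, -, hrm⟩ := lifts_and_degree_eq_and_monic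
        ((mem_lifts q).2 (map_surjective _ hsurj q)) hq
      refine ⟨r, hrm, ?_⟩
      rw [← hr, eval₂_map] at hqa
      exact hqa
    simp only [Subring.mem_iInf, not_forall] at hnm
    obtain ⟨⟨V, hV⟩, haV⟩ := hnm
    obtain ⟨P, hP⟩ := h.exists_place_of_valuationSubring V (fun c => hV (A.algebraMap_mem c)) (fun hF => by
      refine haV ?_
      rcases V.mem_or_inv_mem a with h1 | h1
      · exact h1
      rcases eq_or_ne a 0 with rfl | ha0
      · exact zero_mem V
      obtain ⟨b, hb⟩ := hF.mul_inv_cancel (a := (⟨a⁻¹, h1⟩ : V)) (fun h0 => by simp [Subtype.ext_iff, ha0] at h0)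
      have hb' : a⁻¹ * (b : K) = 1 := congrArg Subtype.val hb
      have : (b : K) = a := by
        rw [← mul_inv_cancel_left₀ ha0 (b : K), hb', mul_one]
      exact this ▸ b.2)
    refine haV ?_
    change a ∈ V
    rw [← hP]
    refine ha P ?_
    have : t ∈ P.O := hP ▸ hV (Algebra.self_mem_adjoin_singleton k t)
    exact this

variable {t : K} {r : ℕ} {e : Fin r → K} {d : Fin r → ℤ}

/-- Polynomials in `t` of bounded degree are polynomials in `t⁻¹` times a power of `t`. -/
theorem exists_inv_iff (htr : Transcendental k t) (p : k[X]) (m : ℤ) :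
    (∃ q : k[X], aeval t p = aeval t⁻¹ q * t ^ m) ↔ p = 0 ∨ (p.natDegree : ℤ) ≤ m := by
  have ht : t ≠ 0 := fun h => htr (h ▸ isAlgebraic_zero)
  constructor
  · rintro ⟨q, hq⟩
    rcases eq_or_ne p 0 with rfl | hp
    · exact Or.inl rfl
    right
    letI : Invertible t⁻¹ := invertibleOfNonzero (inv_ne_zero ht)
    have hrev := eval₂_reflect_mul_pow (algebraMap k K) t⁻¹ q.natDegree q le_rfl
    rw [invOf_eq_inv, inv_inv] at hrev
    change aeval t (reflect q.natDegree q) * t⁻¹ ^ q.natDegree = aeval t⁻¹ q at hrev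
    rw [← hrev] at hq
    have hE : m - q.natDegree + (q.natDegree : ℤ) = m := by ring
    rcases le_or_gt (q.natDegree : ℤ) m with hle | hlt
    · obtain ⟨j, hj⟩ := Int.eq_ofNat_of_zero_le (show 0 ≤ m - q.natDegree by omega)
      have h1 : p = reflect q.natDegree q * X ^ j := by
        refine sub_eq_zero.1 (by_contra fun h0 => FunField.aeval_ne_zero htr h0 ?_)
        rw [map_sub, map_mul, aeval_X_pow, hq, inv_pow, ← zpow_natCast t q.natDegree, ← zpow_neg, mul_assoc,
          ← zpow_add₀ ht, ← zpow_natCast t j, ← hj, neg_add_eq_sub, sub_self]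
      have h2 : p.natDegree ≤ q.natDegree + j := by
        rw [h1]
        refine natDegree_mul_le.trans (add_le_add ?_ (natDegree_X_pow_le j))
        exact natDegree_le_iff_coeff_eq_zero.2 fun N hN => by
          rw [coeff_reflect, revAt_eq_self_of_lt hN]
          exact coeff_eq_zero_of_natDegree_lt hN
      omega
    · obtain ⟨j, hj⟩ := Int.eq_ofNat_of_zero_le (show 0 ≤ q.natDegree - m by omega)
      have h1 : p * X ^ j = reflect q.natDegree q := by
        refine sub_eq_zero.1 (by_contra fun h0 => FunField.aeval_ne_zero htr h0 ?_)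
        rw [map_sub, map_mul, aeval_X_pow, hq, inv_pow, ← zpow_natCast t q.natDegree, ← zpow_neg, mul_assoc,
          mul_assoc, ← zpow_natCast t j, ← zpow_add₀ ht, ← zpow_add₀ ht, ← hj,
          show -(q.natDegree : ℤ) + (m + (q.natDegree - m)) = 0 by ring, zpow_zero, mul_one, sub_self]
      have h2 : p.natDegree + j ≤ q.natDegree := by
        rw [← natDegree_mul_X_pow j hp, h1]
        exact natDegree_le_iff_coeff_eq_zero.2 fun N hN => by
          rw [coeff_reflect, revAt_eq_self_of_lt hN]
          exact coeff_eq_zero_of_natDegree_lt hN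
      omega
  · rintro (rfl | hm)
    · exact ⟨0, by simp⟩
    obtain ⟨j, rfl⟩ := Int.eq_ofNat_of_zero_le (show 0 ≤ m by omega)
    refine ⟨reflect j p, ?_⟩
    letI : Invertible t := invertibleOfNonzero ht
    rw [zpow_natCast, ← invOf_eq_inv]
    exact (eval₂_reflect_mul_pow (algebraMap k K) t j p (by omega)).symm

variable (htr : Transcendental k t) (hff : FunField.FF k K)
  (hind : ∀ p : Fin r → k[X], ∑ i, aeval t (p i) * e i = 0 → p = 0)
  (h0 : ∀ a : K, (∀ P : Place k K, P.1 t ≤ 1 → P.1 a ≤ 1) ↔ ∃ p : Fin r → k[X], a = ∑ i, aeval t (p i) * e i)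
  (h1 : ∀ a : K, (∀ P : Place k K, P.1 t⁻¹ ≤ 1 → P.1 a ≤ 1) ↔
    ∃ q : Fin r → k[X], a = ∑ i, aeval t⁻¹ (q i) * (t ^ d i * e i))

include htr hff in
theorem mem_L_iff (n : ℕ) (a : K) :
    a ∈ FunFld.L (n • FunField.poleDiv (k := k) t) ↔
      (∀ P : Place k K, P.1 t ≤ 1 → P.1 a ≤ 1) ∧
      (∀ P : Place k K, P.1 t⁻¹ ≤ 1 → P.1 (a * t⁻¹ ^ n) ≤ 1) := by
  have ht : t ≠ 0 := fun h => htr (h ▸ isAlgebraic_zero)
  have hb : ∀ P : Place k K, P.1 t ≤ 1 → (n • FunField.poleDiv (k := k) t) P = 0 := fun P hP => by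
    have := (FunField.ord_nonneg_iff P t).2 hP
    rw [Finsupp.smul_apply, FunField.poleDiv_apply hff, max_eq_right (by omega), smul_zero]
  have hc : ∀ P : Place k K, ¬ P.1 t ≤ 1 →
      WithZero.exp ((n • FunField.poleDiv (k := k) t) P) = P.1 t ^ n := fun P hP => by
    have := mt (FunField.ord_nonneg_iff P t).1 hP
    rw [Finsupp.smul_apply, FunField.poleDiv_apply hff, max_eq_left (by omega), nsmul_eq_mul,
      FunField.val_eq_exp_neg_ord P ht, ← WithZero.exp_nsmul, nsmul_eq_mul]
  constructor
  · intro h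
    refine ⟨fun P hP => ?_, fun P hP => ?_⟩
    · have := h P
      rwa [hb P hP, WithZero.exp_zero] at this
    · rw [map_mul, map_pow]
      by_cases hP' : P.1 t ≤ 1
      · have h2 := h P
        rw [hb P hP', WithZero.exp_zero] at h2
        exact mul_le_one' h2 (pow_le_one' hP n)
      · have h2 := h P
        rw [hc P hP'] at h2
        refine (mul_le_mul_left h2 _).trans_eq ?_
        rw [← mul_pow, ← map_mul, mul_inv_cancel₀ ht, map_one, one_pow]
  · rintro ⟨ha, hb'⟩ P
    by_cases hP : P.1 t ≤ 1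
    · rw [hb P hP, WithZero.exp_zero]; exact ha P hP
    · have hP' : P.1 t⁻¹ ≤ 1 := by
        rw [map_inv₀, inv_le_one₀ (by simp [zero_lt_iff, ht])]
        exact (lt_of_not_ge hP).le
      rw [hc P hP]
      have h2 := hb' P hP'
      rw [map_mul, map_pow] at h2
      refine le_trans (le_of_eq ?_) ((mul_le_mul_left h2 (P.1 t ^ n)).trans_eq (one_mul _))
      rw [mul_assoc, ← mul_pow, ← map_mul, inv_mul_cancel₀ ht, map_one, one_pow, mul_one]

include htr hff hind h0 h1 in
theorem mem_L_iff_exists (n : ℕ) (a : K) :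
    a ∈ FunFld.L (n • FunField.poleDiv (k := k) t) ↔
      ∃ p : Fin r → k[X], (∀ i, p i = 0 ∨ ((p i).natDegree : ℤ) ≤ n + d i) ∧ a = ∑ i, aeval t (p i) * e i := by
  have ht : t ≠ 0 := fun h => htr (h ▸ isAlgebraic_zero)
  rw [mem_L_iff htr hff, h0, h1]
  constructor
  · rintro ⟨⟨p, rfl⟩, q, hq⟩
    refine ⟨p, fun i => (exists_inv_iff htr (p i) _).1 ⟨q i, ?_⟩, rfl⟩
    obtain ⟨E, N, N', hN, hN', hEq⟩ : ∃ (E : ℕ) (N N' : Fin r → k[X]),
        (∀ i, aeval t (N i) = aeval t (p i) * t⁻¹ ^ n * t ^ E) ∧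
        (∀ i, aeval t (N' i) = aeval t⁻¹ (q i) * t ^ d i * t ^ E) ∧ True := by
      let E := n + ∑ i, ((q i).natDegree + (d i).natAbs)
      have hE : ∀ i, (q i).natDegree + (d i).natAbs ≤ ∑ j, ((q j).natDegree + (d j).natAbs) := fun i =>
        Finset.single_le_sum (f := fun j => (q j).natDegree + (d j).natAbs) (fun j _ => Nat.zero_le _) (Finset.mem_univ i)
      refine ⟨E, fun i => p i * X ^ (E - n),
        fun i => reflect (q i).natDegree (q i) * X ^ (d i + E - (q i).natDegree).toNat, fun i => ?_, fun i => ?_, trivial⟩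
      · rw [map_mul, aeval_X_pow, mul_assoc, inv_pow, ← pow_sub₀ t ht (by omega) |>.trans (mul_comm _ _)]
      · rw [map_mul, aeval_X_pow]
        letI : Invertible t⁻¹ := invertibleOfNonzero (inv_ne_zero ht)
        have h := eval₂_reflect_mul_pow (algebraMap k K) t⁻¹ (q i).natDegree (q i) le_rfl
        rw [invOf_eq_inv, inv_inv] at h
        change aeval t (reflect (q i).natDegree (q i)) * t⁻¹ ^ (q i).natDegree = aeval t⁻¹ (q i) at h
        rw [← h, mul_assoc, mul_assoc, inv_pow, ← zpow_natCast t (q i).natDegree, ← zpow_neg,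
          ← zpow_natCast t E, ← zpow_add₀ ht, ← zpow_add₀ ht, ← zpow_natCast t]
        congr 2
        have := hE i
        omega
    have hz : ∑ i, aeval t (N i - N' i) * e i = 0 := by
      simp only [map_sub, sub_mul, Finset.sum_sub_distrib, hN, hN']
      have := congrArg (fun z => z * t ^ E) hq
      simp only [Finset.sum_mul] at this
      rw [sub_eq_zero]
      convert this using 1 <;> exact Finset.sum_congr rfl fun i _ => by ring
    have h3 := congrArg (aeval t) (sub_eq_zero.1 (congrFun (hind _ hz) i))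
    rw [hN, hN'] at h3
    have h4 := mul_right_cancel₀ (pow_ne_zero E ht) h3
    rw [zpow_add₀ ht, ← mul_assoc, mul_right_comm, ← h4, mul_assoc (aeval t (p i)), zpow_natCast, ← mul_pow,
      inv_mul_cancel₀ ht, one_pow, mul_one]
  · rintro ⟨p, hp, rfl⟩
    refine ⟨⟨p, rfl⟩, ?_⟩
    choose q hq using fun i => (exists_inv_iff htr (p i) _).2 (hp i)
    refine ⟨q, ?_⟩
    rw [Finset.sum_mul]
    refine Finset.sum_congr rfl fun i _ => ?_
    rw [hq, zpow_add₀ ht, zpow_natCast, show aeval t⁻¹ (q i) * (t ^ n * t ^ d i) * e i * t⁻¹ ^ n =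
      aeval t⁻¹ (q i) * (t ^ d i * e i) * (t * t⁻¹) ^ n by ring, mul_inv_cancel₀ ht, one_pow, mul_one]

include htr hff hind h0 h1 in
theorem ell_poleDiv (n : ℕ) :
    ell (n • FunField.poleDiv (k := k) t) = ∑ i, ((n : ℤ) + d i + 1).toNat := by
  let N : Fin r → ℕ := fun i => ((n : ℤ) + d i + 1).toNat
  let Φ : (∀ i, degreeLT k (N i)) →ₗ[k] K :=
    ∑ i, (LinearMap.mulRight k (e i)) ∘ₗ (aeval (R := k) t).toLinearMap ∘ₗ (degreeLT k (N i)).subtype ∘ₗ
      LinearMap.proj i
  have hΦ : ∀ v, Φ v = ∑ i, aeval t (v i : k[X]) * e i := fun v => by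
    simp [Φ, LinearMap.sum_apply]
  have hinj : Function.Injective Φ := (injective_iff_map_eq_zero Φ).2 fun v hv => by
    rw [hΦ] at hv
    funext i
    exact Subtype.ext (congrFun (hind _ hv) i)
  have hdeg : ∀ (i : Fin r) (p : k[X]), p ∈ degreeLT k (N i) ↔ p = 0 ∨ (p.natDegree : ℤ) ≤ n + d i := fun i p => by
    rw [mem_degreeLT]
    rcases eq_or_ne p 0 with rfl | hp
    · simp [WithBot.bot_lt_coe]
    rw [degree_eq_natDegree hp, Nat.cast_lt, or_iff_right hp]
    simp only [N]
    omega
  have hrange : LinearMap.range Φ = FunFld.L (n • FunField.poleDiv (k := k) t) := by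
    ext a
    rw [mem_L_iff_exists htr hff hind h0 h1, LinearMap.mem_range]
    constructor
    · rintro ⟨v, rfl⟩
      exact ⟨fun i => (v i : k[X]), fun i => (hdeg i _).1 (v i).2, hΦ v⟩
    · rintro ⟨p, hp, rfl⟩
      exact ⟨fun i => ⟨p i, (hdeg i _).2 (hp i)⟩, hΦ _⟩
  haveI : ∀ i, Module.Finite k (degreeLT k (N i)) := fun i => Module.Finite.equiv (degreeLTEquiv k (N i)).symm
  rw [ell, ← hrange, LinearMap.finrank_range_of_inj hinj, Module.finrank_pi_fintype]
  exact Finset.sum_congr rfl fun i _ => ((degreeLTEquiv k (N i)).finrank_eq.trans (Module.finrank_fin_fun k))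

include htr hff hind h0 h1 in
/-- The genus and the degree from the exponents. -/
theorem genus_eq (hK : IsFunctionField k K) :
    (genus k K : ℤ) = 1 - ∑ i, (d i + 1) ∧ (FunField.poleDiv (k := k) t).deg = r := by
  let D := FunField.poleDiv (k := k) t
  obtain ⟨P, hP⟩ := FunField.exists_pole_of_transcendental hff htr
  have hDpos : 0 < D.deg := by
    rw [FunField.deg_poleDiv hff htr]
    have hfin := FunField.FF.finiteDimensional hff htr
    haveI := hfin
    exact_mod_cast Module.finrank_pos
  obtain ⟨n, hn, hn'⟩ : ∃ n : ℕ, (∀ i, 0 ≤ (n : ℤ) + d i + 1) ∧ 2 * (genus k K : ℤ) - 1 ≤ (n : ℤ) := by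
    refine ⟨2 * genus k K + ∑ i, (d i).natAbs, fun i => ?_, by omega⟩
    have := Finset.single_le_sum (f := fun j => (d j).natAbs) (fun j _ => Nat.zero_le _) (Finset.mem_univ i)
    omega
  have key : ∀ m : ℕ, n ≤ m → (r : ℤ) * m + ∑ i, (d i + 1) = m * D.deg + 1 - genus k K := fun m hm => by
    have h1' := FunField.ell_of_large_deg hK (m • D) (by
      rw [FunField.deg_smul]
      have : (n : ℤ) * 1 ≤ (m : ℤ) * D.deg := mul_le_mul (by exact_mod_cast hm) (by omega) (by norm_num) (by positivity)
      omega)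
    rw [ell_poleDiv htr hff hind h0 h1, FunField.deg_smul] at h1'
    rw [← h1']
    push_cast
    have hi : ∀ i, ((((m : ℤ) + d i + 1).toNat : ℕ) : ℤ) = (m : ℤ) + (d i + 1) := fun i => by
      have := hn i; omega
    rw [Nat.cast_sum] at h1'
    simp only [hi, Finset.sum_add_distrib, Finset.sum_const, Finset.card_univ, Fintype.card_fin, nsmul_eq_mul]
  have e1 := key n le_rfl
  have e2 := key (n + 1) (by omega)
  push_cast at e2
  have hr : D.deg = r := by linarith
  refine ⟨?_, hr⟩
  rw [hr, mul_comm] at e1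
  linarith

end Groth.Agent.GenusFF17
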